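import Cfsg.Agent.LThreeFi23.Base
import Cfsg.Agent.H837.ThrChk
import Cfsg.Agent.Lib.PermNetOrbit
import Cfsg.Agent.Lib.PermNetFast
import Cfsg.Agent.FastGrp
import Cfsg.Agent.Prune
set_option linter.all false
prune_inst 0x7ffffffbfffdfddfffff7e7ffffddffff9ffffffffdffffbfffdffffffff7bfffff5ffafffeff8fffed7f2beb2fa7bdbffffffffeffffe7ffffffffc7fffffdfffffffaf7dffbcbf1ffe7fffffffffffffffffffffffffffffffffffffffffffffffffffffff
open scoped Cfsg.Agent.FastGrp

-- part: H935/FiThree/Chk
section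
/-!
# `Fi23`: an element `w0` of class 3B and relations in its normalizer (kernel checks)

Words in the 10 generators and the transposition `z0`; each relation is checked by the kernel on the 31671
transpositions (long relations one bit plane at a time).
-/

set_option autoImplicit false
set_option maxRecDepth 100000
set_option linter.constructorNameAsVariable false
set_option Elab.async false

namespace Cfsg.Agent.H935.FiThree

open Cfsg Cfsg.Agent.Lib.PermNet Cfsg.Agent.LThreeFi23

/-- the element `(z j)(f e)(h i)` of order 3 (class 3B) -/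
def w0 : List Lt :=
    [.z, .j, .f, .e, .h, .i]

/-- inverts `w0` -/
def t0 : List Lt :=
    [.z, .f, .h]

/-- the element `z j` of order 3 -/
def u1 : List Lt :=
    [.z, .j]

/-- an element of order 4 commuting with `w0` -/
def pp : List Lt :=
    [.g, .f, .e, .d, .h, .i, .d, .e, .b, .c, .d, .h, .f, .e, .d, .c, .b, .a, .b, .c, .d, .e, .f, .h,
    .d, .c, .b, .e, .d, .i, .h, .d, .e, .f, .g, .j, .g, .f, .e, .d, .h, .i, .f, .e, .b, .c, .d, .h,
    .g, .f, .e, .d, .c, .b, .a, .b, .c, .d, .e, .f, .g, .h, .d, .c, .b, .e, .f, .i, .h, .d, .e, .f,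
    .g, .j, .z, .j]

/-- the product of the three conjugates of `d` under `w0` -/
def td : List Lt :=
    [.d, .z, .j, .f, .e, .h, .i, .d, .i, .h, .e, .f, .j, .z, .i, .h, .e, .f, .j, .z, .d, .z, .j, .f,
    .e, .h, .i]

/-- the product of the three conjugates of `g` under `w0` -/
def tg : List Lt :=
    [.g, .z, .j, .f, .e, .h, .i, .g, .i, .h, .e, .f, .j, .z, .i, .h, .e, .f, .j, .z, .g, .z, .j, .f,
    .e, .h, .i]

/-- the product of the three conjugates of `h d h` under `w0` -/
def th : List Lt :=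
    [.h, .d, .h, .z, .j, .f, .e, .h, .i, .h, .d, .h, .i, .h, .e, .f, .j, .z, .i, .h, .e, .f, .j, .z,
    .h, .d, .h, .z, .j, .f, .e, .h, .i]

/-- a transposition commuting with `w0` and `td` -/
def fs : List Lt :=
    [.e, .f, .g, .j, .f, .d, .e, .c, .d, .h, .i, .f, .d, .e, .c, .d, .h, .g, .f, .e, .d, .c, .b, .c,
    .d, .e, .f, .g, .h, .d, .c, .e, .d, .f, .i, .h, .d, .c, .e, .d, .f, .j, .g, .f, .e]

/-- an element of order 3, the commutator of `a b` and `a fs` -/
def ww : List Lt :=
    [.a, .e, .f, .g, .j, .f, .d, .e, .c, .d, .h, .i, .f, .d, .e, .c, .d, .h, .g, .f, .e, .d, .c, .b,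
    .c, .d, .e, .f, .g, .h, .d, .c, .e, .d, .f, .i, .h, .d, .c, .b, .c, .d, .h, .i, .f, .d, .e, .c,
    .d, .h, .g, .f, .e, .d, .c, .a, .b, .c, .d, .e, .f, .g, .h, .d, .c, .e, .d, .f, .i, .h, .d, .c,
    .b, .e, .d, .f, .j, .g, .f, .e]

/-- an element of order 4 commuting with `w0` -/
def uu4 : List Lt :=
    [.b, .a, .c, .d, .h, .i, .e, .d, .h, .f, .e, .d, .c, .d, .e, .f, .h, .d, .e, .i, .h, .e, .b, .c,
    .d, .h, .i, .h, .c, .d, .e, .b, .c, .d, .h, .f, .e, .d, .c, .b, .a, .b, .c, .d, .e, .f, .h, .d,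
    .c, .b, .e, .d, .c, .h, .i, .h, .d, .c, .b, .e, .d, .c]

/-- the conjugate of `uu4` under `ww` -/
def vv4 : List Lt :=
    [.c, .d, .h, .i, .e, .d, .h, .f, .e, .d, .c, .d, .e, .f, .h, .d, .e, .i, .h, .e, .b, .c, .d, .h,
    .i, .h, .c, .d, .e, .b, .c, .d, .h, .f, .e, .d, .c, .b, .a, .b, .c, .d, .e, .f, .h, .d, .c, .b,
    .e, .d, .c, .h, .i, .h, .d, .c, .b, .e, .d, .c, .b, .a]

/-- the reversed word -/
def rv (l : List Lt) : List Lt := l.reverse

def rr : List Lt := [.a, .b]

def ss : List Lt := .a :: fs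

/-- `u1 p u1⁻¹` -/
def qq : List Lt := u1 ++ pp ++ rv u1

/-- equality of two words, for the kernel -/
noncomputable def rel (l l' : List Lt) : Bool := checkEq 15 (ntw l) (ntw l')

theorem rel_eq {l l' : List Lt} (h : rel l l' = true) : elw l = elw l' := elw_eq_of_checkEq h

/-- eight bit planes from `lo` on, side by side -/
private noncomputable def pl8 (lo : ℕ) : ℕ :=
  Cfsg.Agent.Lib.PermNetFast.sbs 15 (fun j => Cfsg.Agent.Lib.PermNet.plane 15 (Nat.add lo j)) (Nat.min 8 (Nat.sub 15 lo))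

/-- both words act in the same way on eight bit planes -/
private noncomputable def rel8 (lo : ℕ) (l l' : List Lt) : Bool :=
  Nat.beq (appWord (Cfsg.Agent.Lib.PermNetFast.qw 15 3 (ntw l)) (pl8 lo))
    (appWord (Cfsg.Agent.Lib.PermNetFast.qw 15 3 (ntw l')) (pl8 lo))

private theorem rel8_bit {lo : ℕ} {l l' : List Lt} (h : rel8 lo l l' = true) {p j : ℕ} (hp : p < 2 ^ 15) (hj : j < 8)
    (hb : lo + j < 15) : (wperm (ntw l) p).testBit (lo + j) = (wperm (ntw l') p).testBit (lo + j) := by
  have h0 := Nat.eq_of_beq_eq_true h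
  have h1 := wperm_lt (ntw_ok l) hp
  have h2 := wperm_lt (ntw_ok l') hp
  have hn : j < Nat.min 8 (Nat.sub 15 lo) := Nat.lt_min.2 ⟨hj, Nat.lt_sub_of_add_lt (by omega)⟩
  have e : ∀ q < 2 ^ 15, (pl8 lo).testBit (2 ^ 15 * j + q) =
      (Cfsg.Agent.Lib.PermNet.plane 15 (lo + j)).testBit q := fun q hq =>
    (Cfsg.Agent.Lib.PermNetFast.sbs_spec (k := 15)
      (f := fun j => Cfsg.Agent.Lib.PermNet.plane 15 (Nat.add lo j)) _ fun i hi x hx =>
        testBit_plane_of_le 15 (lo + i) x hx (by
          have := Nat.add_lt_of_lt_sub (Nat.lt_min.1 hi).2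
          omega)).2 j hn q hq
  rw [← testBit_plane 15 (lo + j) _ h1 hb, ← testBit_plane 15 (lo + j) _ h2 hb, ← e _ h1, ← e _ h2,
    ← Cfsg.Agent.Lib.PermNetFast.tb_qw 3 (ntw_ok l) _ hj hp,
    ← Cfsg.Agent.Lib.PermNetFast.tb_qw 3 (ntw_ok l') _ hj hp, h0]

private theorem rel8_eq {l l' : List Lt} (h0 : rel8 0 l l' = true) (h1 : rel8 8 l l' = true) : elw l = elw l' := by
  apply rho_inj
  rw [rho_elw, rho_elw]
  ext p
  by_cases hp : p < 2 ^ 15
  · refine Nat.eq_of_testBit_eq fun b => ?_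
    by_cases hb : b < 15
    · by_cases c1 : b < 8
      · have := rel8_bit h0 hp c1 (by omega)
        rwa [Nat.zero_add] at this
      · obtain ⟨j, rfl⟩ := Nat.exists_eq_add_of_le (show 8 ≤ b by omega)
        exact rel8_bit h1 hp (by omega) hb
    · have hk : 2 ^ 15 ≤ 2 ^ b := Nat.pow_le_pow_right (by norm_num) (by omega)
      rw [Nat.testBit_lt_two_pow (lt_of_lt_of_le (wperm_lt (ntw_ok l) hp) hk),
        Nat.testBit_lt_two_pow (lt_of_lt_of_le (wperm_lt (ntw_ok l') hp) hk)]
  · rw [wperm_eq_of_le (ntw_ok l) (by omega), wperm_eq_of_le (ntw_ok l') (by omega)]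

theorem w0_cube : elw (w0 ++ w0 ++ w0) = elw ([]) := rel_eq (by (rewrite [show @Cfsg.Agent.H935.FiThree.rel = delta% @Cfsg.Agent.H935.FiThree.rel from by delta Cfsg.Agent.H935.FiThree.rel; rfl, Cfsg.Agent.Lib.PermNetFast.checkEq_fast]; decide +kernel))

theorem t0_w0 : elw (t0 ++ w0) = elw (rv w0 ++ t0) := rel_eq (by (rewrite [show @Cfsg.Agent.H935.FiThree.rel = delta% @Cfsg.Agent.H935.FiThree.rel from by delta Cfsg.Agent.H935.FiThree.rel; rfl, Cfsg.Agent.Lib.PermNetFast.checkEq_fast]; decide +kernel))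

theorem t0_u1 : elw (t0 ++ u1) = elw (rv u1 ++ t0) := rel_eq (by decide +kernel)

theorem u1_w0 : elw (u1 ++ w0) = elw (w0 ++ u1) := rel_eq (by (rewrite [show @Cfsg.Agent.H935.FiThree.rel = delta% @Cfsg.Agent.H935.FiThree.rel from by delta Cfsg.Agent.H935.FiThree.rel; rfl, Cfsg.Agent.Lib.PermNetFast.checkEq_fast]; decide +kernel))

theorem u1_cube : elw (u1 ++ u1 ++ u1) = elw ([]) := rel_eq (by decide +kernel)

theorem pp_w0 : elw (pp ++ w0) = elw (w0 ++ pp) := rel_eq (by (rewrite [show @Cfsg.Agent.H935.FiThree.rel = delta% @Cfsg.Agent.H935.FiThree.rel from by delta Cfsg.Agent.H935.FiThree.rel; rfl, Cfsg.Agent.Lib.PermNetFast.checkEq_fast]; decide +kernel))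

theorem u1_qq : elw (u1 ++ qq ++ rv u1) = elw (pp ++ qq) := rel8_eq (by decide +kernel) (by decide +kernel)

theorem pp_qq : elw (pp ++ qq) = elw (([.a] : List Lt) ++ td ++ qq ++ pp) := rel8_eq (by decide +kernel) (by decide +kernel)

theorem td_sq : elw (td ++ td) = elw ([]) := rel_eq (by (rewrite [show @Cfsg.Agent.H935.FiThree.rel = delta% @Cfsg.Agent.H935.FiThree.rel from by delta Cfsg.Agent.H935.FiThree.rel; rfl, Cfsg.Agent.Lib.PermNetFast.checkEq_fast]; decide +kernel))

theorem tg_sq : elw (tg ++ tg) = elw ([]) := rel_eq (by (rewrite [show @Cfsg.Agent.H935.FiThree.rel = delta% @Cfsg.Agent.H935.FiThree.rel from by delta Cfsg.Agent.H935.FiThree.rel; rfl, Cfsg.Agent.Lib.PermNetFast.checkEq_fast]; decide +kernel))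

theorem th_sq : elw (th ++ th) = elw ([]) := rel_eq (by (rewrite [show @Cfsg.Agent.H935.FiThree.rel = delta% @Cfsg.Agent.H935.FiThree.rel from by delta Cfsg.Agent.H935.FiThree.rel; rfl, Cfsg.Agent.Lib.PermNetFast.checkEq_fast]; decide +kernel))

theorem atd_rr : elw (([.a] : List Lt) ++ td ++ rr) = elw (rv rr ++ ([.a] : List Lt) ++ td) := rel_eq (by (rewrite [show @Cfsg.Agent.H935.FiThree.rel = delta% @Cfsg.Agent.H935.FiThree.rel from by delta Cfsg.Agent.H935.FiThree.rel; rfl, Cfsg.Agent.Lib.PermNetFast.checkEq_fast]; decide +kernel))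

theorem atd_ss : elw (([.a] : List Lt) ++ td ++ ss) = elw (rv ss ++ ([.a] : List Lt) ++ td) := rel_eq (by (rewrite [show @Cfsg.Agent.H935.FiThree.rel = delta% @Cfsg.Agent.H935.FiThree.rel from by delta Cfsg.Agent.H935.FiThree.rel; rfl, Cfsg.Agent.Lib.PermNetFast.checkEq_fast]; decide +kernel))

theorem rr_cube : elw (rr ++ rr ++ rr) = elw ([]) := rel_eq (by decide +kernel)

theorem ss_cube : elw (ss ++ ss ++ ss) = elw ([]) := rel_eq (by (rewrite [show @Cfsg.Agent.H935.FiThree.rel = delta% @Cfsg.Agent.H935.FiThree.rel from by delta Cfsg.Agent.H935.FiThree.rel; rfl, Cfsg.Agent.Lib.PermNetFast.checkEq_fast]; decide +kernel))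

theorem rr_ss : elw (rr ++ ss) = elw (ww ++ ss ++ rr) := rel8_eq (by decide +kernel) (by decide +kernel)

theorem ww_uu : elw (ww ++ uu4) = elw (vv4 ++ ww) := rel8_eq (by decide +kernel) (by decide +kernel)

theorem ww_vv : elw (ww ++ vv4) = elw (vv4 ++ uu4 ++ ww) := rel8_eq (by decide +kernel) (by decide +kernel)

theorem uu_vv : elw (uu4 ++ vv4) = elw (td ++ vv4 ++ uu4) := rel8_eq (by decide +kernel) (by decide +kernel)

theorem td_w0 : elw (td ++ w0) = elw (w0 ++ td) := rel_eq (by (rewrite [show @Cfsg.Agent.H935.FiThree.rel = delta% @Cfsg.Agent.H935.FiThree.rel from by delta Cfsg.Agent.H935.FiThree.rel; rfl, Cfsg.Agent.Lib.PermNetFast.checkEq_fast]; decide +kernel))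

theorem tg_w0 : elw (tg ++ w0) = elw (w0 ++ tg) := rel_eq (by (rewrite [show @Cfsg.Agent.H935.FiThree.rel = delta% @Cfsg.Agent.H935.FiThree.rel from by delta Cfsg.Agent.H935.FiThree.rel; rfl, Cfsg.Agent.Lib.PermNetFast.checkEq_fast]; decide +kernel))

theorem th_w0 : elw (th ++ w0) = elw (w0 ++ th) := rel_eq (by (rewrite [show @Cfsg.Agent.H935.FiThree.rel = delta% @Cfsg.Agent.H935.FiThree.rel from by delta Cfsg.Agent.H935.FiThree.rel; rfl, Cfsg.Agent.Lib.PermNetFast.checkEq_fast]; decide +kernel))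

theorem fs_w0 : elw (fs ++ w0) = elw (w0 ++ fs) := rel_eq (by (rewrite [show @Cfsg.Agent.H935.FiThree.rel = delta% @Cfsg.Agent.H935.FiThree.rel from by delta Cfsg.Agent.H935.FiThree.rel; rfl, Cfsg.Agent.Lib.PermNetFast.checkEq_fast]; decide +kernel))

theorem uu_w0 : elw (uu4 ++ w0) = elw (w0 ++ uu4) := rel_eq (by (rewrite [show @Cfsg.Agent.H935.FiThree.rel = delta% @Cfsg.Agent.H935.FiThree.rel from by delta Cfsg.Agent.H935.FiThree.rel; rfl, Cfsg.Agent.Lib.PermNetFast.checkEq_fast]; decide +kernel))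

theorem a_w0 : elw (([.a] : List Lt) ++ w0) = elw (w0 ++ ([.a] : List Lt)) := rel_eq (by decide +kernel)

theorem b_w0 : elw (([.b] : List Lt) ++ w0) = elw (w0 ++ ([.b] : List Lt)) := rel_eq (by decide +kernel)

theorem c_w0 : elw (([.c] : List Lt) ++ w0) = elw (w0 ++ ([.c] : List Lt)) := rel_eq (by decide +kernel)

theorem xx_cube : elw (td ++ tg ++ td ++ tg ++ td ++ tg) = elw ([]) := rel_eq (by (rewrite [show @Cfsg.Agent.H935.FiThree.rel = delta% @Cfsg.Agent.H935.FiThree.rel from by delta Cfsg.Agent.H935.FiThree.rel; rfl, Cfsg.Agent.Lib.PermNetFast.checkEq_fast]; decide +kernel))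

theorem yy_cube : elw (td ++ th ++ td ++ th ++ td ++ th) = elw ([]) := rel8_eq (by decide +kernel) (by decide +kernel)

theorem xx_yy : elw (td ++ tg ++ td ++ th) = elw (w0 ++ td ++ th ++ td ++ tg) := rel8_eq (by decide +kernel) (by decide +kernel)

end Cfsg.Agent.H935.FiThree
end

-- part: H935/FiThree/Chk2
section
/-!
# `Fi23`: orbits of a subgroup of the normalizer of `w0` on the transpositions, patterns (kernel checks)
-/

set_option autoImplicit false
set_option maxRecDepth 100000
set_option linter.constructorNameAsVariable false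
set_option Elab.async false

namespace Cfsg.Agent.H935.FiThree

open Cfsg Cfsg.Agent.Lib.PermNet Cfsg.Agent.Lib.PermNetFix Cfsg.Agent.LThreeFi23
open Cfsg.Spor (Fi23)
open Cfsg.Agent.Fischer.Fi23Hom (rho)

/-- the element `f e` of order 3 -/
def u2 : List Lt := [.f, .e]

theorem u2_w0 : elw (u2 ++ w0) = elw (w0 ++ u2) := rel_eq (by decide +kernel)

/-! ### Growth of sets of points -/

/-- growth of a set of points along a list of words -/
noncomputable def grow (s : List (List Lt)) : ℕ → ℕ :=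
  List.rec (motive := fun _ => ℕ → ℕ) (fun P => P)
    (fun w _ ih P => seq (Nat.lor P (appWord (ntw w) P)) ih) s

theorem grow_cons (w : List Lt) (s : List (List Lt)) (P : ℕ) :
    grow (w :: s) P = grow s (P ||| appWord (ntw w) P) := by
  show seq (Nat.lor P (appWord (ntw w) P)) (grow s) = _
  rw [seq_eq]
  rfl

/-- the grown set stays in the orbit -/
theorem grow_spec {H : Subgroup Fi23} {x : ℕ} {s : List (List Lt)} (hs : ∀ w ∈ s, elw w ∈ H) {P : ℕ}
    (hP : ∀ p, P.testBit p = true → ∃ h ∈ H, rho h x = p) (p : ℕ) (hp : (grow s P).testBit p = true) :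
    ∃ h ∈ H, rho h x = p := by
  induction s generalizing P with
  | nil => exact hP p hp
  | cons w s ih =>
    rw [grow_cons] at hp
    refine ih (fun w hw => hs w (List.mem_cons_of_mem _ hw)) ?_ hp
    intro q hq
    rw [Nat.testBit_or, Bool.or_eq_true] at hq
    rcases hq with hq | hq
    · exact hP q hq
    · rw [testBit_appWord (ntw_ok w), ← rho_elw] at hq
      obtain ⟨h, hh, he⟩ := hP _ hq
      refine ⟨(elw w)⁻¹ * h, H.mul_mem (H.inv_mem (hs w List.mem_cons_self)) hh, ?_⟩
      rw [map_mul, Equiv.Perm.mul_apply, he, map_inv, Equiv.Perm.inv_eq_iff_eq]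

/-- the words of the growth -/
def sF : List (List Lt) :=
    [[.b], [.a], [.c], [.b], pp, [.b], [.c], u2, u1, [.b], [.a], u2, [.b], pp, [.b], [.c], [.b]]

/-- the words of the growth -/
def s2 : List (List Lt) :=
    [u1, u1, pp, [.b], [.c], u1, u2, [.a], [.b], u1, u2, [.a], pp, [.c], [.b], u1, u2, u1, u2, [.a],
    [.c], pp, u2, [.b], [.c], u1]

/-- the words of the growth -/
def s3 : List (List Lt) :=
    [[.c], u2, [.b], u2, [.a], pp, [.b], [.c], u1, u2, [.a], u1, u2, [.b], [.a], pp, [.c], [.b], u2,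
    u1, u2, [.a], [.c], u1, [.b], pp, [.c], u1, [.b]]

/-- the 324 points fixed by `w0` -/
noncomputable def mF : ℕ := grow sF (Nat.pow 2 8003)

/-- the orbit of `z0`, 11664 points -/
noncomputable def m2 : ℕ := grow s2 (Nat.pow 2 0)

/-- the orbit of `d`, 19683 points -/
noncomputable def m3 : ℕ := grow s3 (Nat.pow 2 8000)

noncomputable def chkOrb : Bool :=
  seqB mF fun A => seqB m2 fun B => seqB m3 fun C => seqB (moved 15 (ntw w0)) fun D =>
    and (Nat.beq (Nat.lor (Nat.lor A B) C) full)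
      (and (Nat.beq (Lib.PermNetOrbit.pc 15 (Nat.lor A B)) 11988)
        (and (Nat.beq (Lib.PermNetOrbit.pc 15 (Nat.lor A C)) 20007)
          (and (Nat.beq (Nat.land A D) 0)
            (and (Nat.beq (Lib.PermNetOrbit.pc 15 D) 31347)
              (allTb A [11589, 8004, 8003, 707, 5694, 1813, 494, 3219, 4823])))))

theorem chk_orb : chkOrb = true := by (rewrite [show @Cfsg.Agent.H935.FiThree.chkOrb = delta% @Cfsg.Agent.H935.FiThree.chkOrb from by delta Cfsg.Agent.H935.FiThree.chkOrb; rfl, Cfsg.Agent.Lib.PermNetFast.pcO_fast, Cfsg.Agent.Lib.PermNetFast.moved_fast]; decide +kernel)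

theorem chk_uu : Nat.beq (Lib.PermNetOrbit.pc 15 (moved 15 (ntw [.z, .j]))) 31320 = true := by (rewrite [Cfsg.Agent.Lib.PermNetFast.pcO_fast, Cfsg.Agent.Lib.PermNetFast.moved_fast]; decide +kernel)

theorem chk_xC : Nat.beq (Lib.PermNetOrbit.pc 15 (moved 15 (ntw [.a, .b, .h, .i]))) 31536 = true := by
  (rewrite [Cfsg.Agent.Lib.PermNetFast.pcO_fast, Cfsg.Agent.Lib.PermNetFast.moved_fast]; decide +kernel)

/-! ### Transpositions fixed by `w0` and patterns -/

/-- a palindrome -/
def pal (v : List Lt) (l : Lt) : List Lt := v ++ l :: v.reverse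

def v707 : List Lt :=
    [.d, .h, .i, .e, .d, .h, .f, .e, .d]

def v5694 : List Lt :=
    [.d, .e, .c, .d, .h, .i, .d, .e, .b, .c, .d, .h, .f, .e, .d, .c, .b]

def v1813 : List Lt :=
    [.j, .z, .g, .j, .f, .d, .e, .c, .d, .h, .i, .f, .d, .e, .c, .d, .h, .g, .f, .e, .d, .c]

def v494 : List Lt :=
    [.c, .d, .h, .i, .e, .d, .h, .f, .e, .d]

def v3219 : List Lt :=
    [.e, .f, .g, .j, .f, .d, .e, .c, .d, .h, .i, .f, .d, .e, .c, .d, .h, .g, .f, .e, .d, .c]

def v4823 : List Lt :=
    [.g, .j, .z, .f, .g, .j, .e, .f, .d, .e, .c, .d, .h, .i, .d, .e, .b, .c, .d, .h, .g, .f, .e, .d,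
    .c, .b]

theorem pt_707 : Nat.beq (ptw v707 (pt .c)) 707 = true := by decide +kernel
theorem pt_5694 : Nat.beq (ptw v5694 (pt .a)) 5694 = true := by decide +kernel
theorem pt_1813 : Nat.beq (ptw v1813 (pt .b)) 1813 = true := by decide +kernel
theorem pt_494 : Nat.beq (ptw v494 (pt .c)) 494 = true := by decide +kernel
theorem pt_3219 : Nat.beq (ptw v3219 (pt .b)) 3219 = true := by decide +kernel
theorem pt_4823 : Nat.beq (ptw v4823 (pt .a)) 4823 = true := by decide +kernel

def ce_z : List (List Lt × Bool) :=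
  [([.c], false), ([.b], false), ([.a], false), (pal v707 .c, false), (pal v5694 .a, false)]

theorem e_z : pchk ce_z [0, 1, 8006] = true := by (rewrite [show @Cfsg.Agent.LThreeFi23.pchk = delta% @Cfsg.Agent.LThreeFi23.pchk from by delta Cfsg.Agent.LThreeFi23.pchk; rfl, show @Cfsg.Agent.LThreeFi23.pattern = delta% @Cfsg.Agent.LThreeFi23.pattern from by delta Cfsg.Agent.LThreeFi23.pattern; rfl, Cfsg.Agent.Lib.PermNetFast.moved_fast]; decide +kernel)

def ce_g : List (List Lt × Bool) :=
  [([.c], false), ([.b], false), ([.a], false), (pal v1813 .b, false)]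

theorem e_g : pchk ce_g [3, 4150, 8005] = true := by (rewrite [show @Cfsg.Agent.LThreeFi23.pchk = delta% @Cfsg.Agent.LThreeFi23.pchk from by delta Cfsg.Agent.LThreeFi23.pchk; rfl, show @Cfsg.Agent.LThreeFi23.pattern = delta% @Cfsg.Agent.LThreeFi23.pattern from by delta Cfsg.Agent.LThreeFi23.pattern; rfl, Cfsg.Agent.Lib.PermNetFast.moved_fast]; decide +kernel)

def ce_d : List (List Lt × Bool) :=
  [([.b], false), ([.a], false), (pal v494 .c, false), (pal v3219 .b, false)]

theorem e_d : pchk ce_d [4131, 4233, 8000] = true := by (rewrite [show @Cfsg.Agent.LThreeFi23.pchk = delta% @Cfsg.Agent.LThreeFi23.pchk from by delta Cfsg.Agent.LThreeFi23.pchk; rfl, show @Cfsg.Agent.LThreeFi23.pattern = delta% @Cfsg.Agent.LThreeFi23.pattern from by delta Cfsg.Agent.LThreeFi23.pattern; rfl, Cfsg.Agent.Lib.PermNetFast.moved_fast]; decide +kernel)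

def ce_e : List (List Lt × Bool) :=
  [([.c], false), ([.b], false), ([.a], false), (pal v707 .c, false), (pal v4823 .a, false)]

theorem e_e : pchk ce_e [6524, 8001, 8002] = true := by (rewrite [show @Cfsg.Agent.LThreeFi23.pchk = delta% @Cfsg.Agent.LThreeFi23.pchk from by delta Cfsg.Agent.LThreeFi23.pchk; rfl, show @Cfsg.Agent.LThreeFi23.pattern = delta% @Cfsg.Agent.LThreeFi23.pattern from by delta Cfsg.Agent.LThreeFi23.pattern; rfl, Cfsg.Agent.Lib.PermNetFast.moved_fast]; decide +kernel)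

def ce_h : List (List Lt × Bool) :=
  [([.c], false), ([.b], false), ([.a], false), (pal v707 .c, false), (pal v5694 .a, true), (pal v4823 .a, true)]

theorem e_h : pchk ce_h [6537, 7999, 8007] = true := by (rewrite [show @Cfsg.Agent.LThreeFi23.pchk = delta% @Cfsg.Agent.LThreeFi23.pchk from by delta Cfsg.Agent.LThreeFi23.pchk; rfl, show @Cfsg.Agent.LThreeFi23.pattern = delta% @Cfsg.Agent.LThreeFi23.pattern from by delta Cfsg.Agent.LThreeFi23.pattern; rfl, Cfsg.Agent.Lib.PermNetFast.moved_fast]; decide +kernel)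

/-! ### Points -/

/-- the images of the points of the first list are those of the second -/
noncomputable def imgs (w : List Lt) (l : List (ℕ × ℕ)) : Bool :=
  List.rec (motive := fun _ => Bool) true (fun p _ ih => and (Nat.beq (ptw w p.1) p.2) ih) l

theorem imgs_spec {w : List Lt} {l : List (ℕ × ℕ)} (h : imgs w l = true) : ∀ p ∈ l, rho (elw w) p.1 = p.2 := by
  induction l with
  | nil => intro p hp; exact absurd hp (by simp)
  | cons q l ih =>
    intro p hp
    have hl' : and (Nat.beq (ptw w q.1) q.2) (imgs w l) = true := h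
    rw [Bool.and_eq_true] at hl'
    rcases List.mem_cons.1 hp with rfl | hp
    · rw [← ptw_eq]
      exact Nat.eq_of_beq_eq_true hl'.1
    · exact ih hl'.2 p hp

theorem i_w0 : imgs w0 [(0, 8006), (8006, 1), (1, 0), (8001, 6524), (8002, 8001), (6524, 8002), (7999, 8007),
    (8007, 6537), (6537, 7999)] = true := by
  decide +kernel

theorem i_z : imgs [.z] [(3, 5268), (4150, 4), (8005, 8005)] = true := by decide +kernel

theorem i_g : imgs [.g] [(8002, 6529), (6524, 5265), (8001, 8001)] = true := by decide +kernel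

theorem i_f : imgs [.f] [(4131, 5256), (4233, 3320), (8000, 8000)] = true := by decide +kernel

theorem i_d : imgs [.d] [(7999, 6522), (6537, 5286), (8007, 8007)] = true := by decide +kernel

end Cfsg.Agent.H935.FiThree
end

-- part: H935/FiThree/Fix
section
/-!
# `Fi23`: the pointwise stabilizer of the transpositions commuting with `w0`
-/

set_option autoImplicit false
set_option maxRecDepth 100000
set_option linter.constructorNameAsVariable false

namespace Cfsg.Agent.H935.FiThree

open Subgroup Cfsg Cfsg.Agent.Lib.PermNet Cfsg.Agent.Lib.PermNetFix Cfsg.Agent.LThreeFi23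
open Cfsg.Spor (Fi23)
open Cfsg.Agent.Fischer.Fi23Hom (rho)

private theorem imgs_ab {w : List Lt} {l : List (ℕ × ℕ)} (h : imgs w l = true) (a b : ℕ) (hm : (a, b) ∈ l) :
    rho (elw w) a = b := imgs_spec h (a, b) hm

/-- the element `(z j)(f e)(h i)` of `Fi23` -/
def W : Fi23 := elw w0

theorem W_cube : W ^ 3 = 1 := by
  have h := w0_cube
  rw [elw_append, elw_append, elw_nil] at h
  rw [pow_succ, pow_two]
  exact h

theorem W_inv : W⁻¹ = W * W := by
  rw [inv_eq_iff_mul_eq_one, ← mul_assoc]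
  have h := W_cube
  rw [pow_succ, pow_two] at h
  exact h

/-! ### Palindromes -/

theorem T_pal {v : List Lt} {l : Lt} {p : ℕ} (h : Nat.beq (ptw v (pt l)) p = true) : T p = elw (pal v l) := by
  have h1 : rho (elw v) (pt l) = p := by
    rw [← ptw_eq]
    exact Nat.eq_of_beq_eq_true h
  rw [← h1, T_act _ (pt_lt l), T_pt]
  unfold pal
  rw [elw_append, elw_cons, elw_reverse, mul_assoc]

/-- the nine transpositions used below -/
def nine : List ℕ := [11589, 8004, 8003, 707, 5694, 1813, 494, 3219, 4823]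

theorem comm_pal {σ : Fi23} {v : List Lt} {l : Lt} {p : ℕ} (h : Nat.beq (ptw v (pt l)) p = true)
    (hf : rho σ p = p) : σ * elw (pal v l) = elw (pal v l) * σ := by
  have hp : p < 31671 := by
    have h1 : rho (elw v) (pt l) = p := by
      rw [← ptw_eq]
      exact Nat.eq_of_beq_eq_true h
    rw [← h1]
    exact act_lt _ (pt_lt l)
  rw [← T_pal h]
  exact (fix_iff σ hp).1 hf

theorem comm_let {σ : Fi23} {l : Lt} (hf : rho σ (pt l) = pt l) : σ * elw [l] = elw [l] * σ := by
  rw [elw_cons, elw_nil, mul_one]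
  exact (fix_pt_iff σ l).1 hf

structure Fixes (σ : Fi23) : Prop where
  a : rho σ 11589 = 11589
  b : rho σ 8004 = 8004
  c : rho σ 8003 = 8003
  p707 : rho σ 707 = 707
  p5694 : rho σ 5694 = 5694
  p1813 : rho σ 1813 = 1813
  p494 : rho σ 494 = 494
  p3219 : rho σ 3219 = 3219
  p4823 : rho σ 4823 = 4823

theorem Fixes.act_z {σ : Fi23} (h : Fixes σ) {p : ℕ} (hp : p ∈ [0, 1, 8006]) : rho σ p ∈ [0, 1, 8006] := by
  refine pchk_act e_z ?_ hp
  intro c hc
  simp only [ce_z, List.mem_cons, List.not_mem_nil, or_false] at hc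
  rcases hc with rfl | rfl | rfl | rfl | rfl
  · exact comm_let h.c
  · exact comm_let h.b
  · exact comm_let h.a
  · exact comm_pal pt_707 h.p707
  · exact comm_pal pt_5694 h.p5694

theorem Fixes.act_g {σ : Fi23} (h : Fixes σ) {p : ℕ} (hp : p ∈ [3, 4150, 8005]) : rho σ p ∈ [3, 4150, 8005] := by
  refine pchk_act e_g ?_ hp
  intro c hc
  simp only [ce_g, List.mem_cons, List.not_mem_nil, or_false] at hc
  rcases hc with rfl | rfl | rfl | rfl
  · exact comm_let h.c
  · exact comm_let h.b
  · exact comm_let h.a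
  · exact comm_pal pt_1813 h.p1813

theorem Fixes.act_d {σ : Fi23} (h : Fixes σ) {p : ℕ} (hp : p ∈ [4131, 4233, 8000]) :
    rho σ p ∈ [4131, 4233, 8000] := by
  refine pchk_act e_d ?_ hp
  intro c hc
  simp only [ce_d, List.mem_cons, List.not_mem_nil, or_false] at hc
  rcases hc with rfl | rfl | rfl | rfl
  · exact comm_let h.b
  · exact comm_let h.a
  · exact comm_pal pt_494 h.p494
  · exact comm_pal pt_3219 h.p3219

theorem Fixes.act_e {σ : Fi23} (h : Fixes σ) {p : ℕ} (hp : p ∈ [6524, 8001, 8002]) :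
    rho σ p ∈ [6524, 8001, 8002] := by
  refine pchk_act e_e ?_ hp
  intro c hc
  simp only [ce_e, List.mem_cons, List.not_mem_nil, or_false] at hc
  rcases hc with rfl | rfl | rfl | rfl | rfl
  · exact comm_let h.c
  · exact comm_let h.b
  · exact comm_let h.a
  · exact comm_pal pt_707 h.p707
  · exact comm_pal pt_4823 h.p4823

theorem Fixes.act_h {σ : Fi23} (h : Fixes σ) {p : ℕ} (hp : p ∈ [6537, 7999, 8007]) :
    rho σ p ∈ [6537, 7999, 8007] := by
  refine pchk_act e_h ?_ hp
  intro c hc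
  simp only [ce_h, List.mem_cons, List.not_mem_nil, or_false] at hc
  rcases hc with rfl | rfl | rfl | rfl | rfl | rfl
  · exact comm_let h.c
  · exact comm_let h.b
  · exact comm_let h.a
  · exact comm_pal pt_707 h.p707
  · exact comm_pal pt_5694 h.p5694
  · exact comm_pal pt_4823 h.p4823

/-- a permutation of order 3 preserving a set of three points is a cyclic shift there -/
theorem shift {τ : Equiv.Perm ℕ} (h3 : ∀ q, τ (τ (τ q)) = q) {x y z : ℕ} (hxy : x ≠ y) (hxz : x ≠ z) (hyz : y ≠ z)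
    (hx : τ x = x ∨ τ x = y ∨ τ x = z) (hy : τ y = x ∨ τ y = y ∨ τ y = z) (hz : τ z = x ∨ τ z = y ∨ τ z = z) :
    (τ x = x ∧ τ y = y ∧ τ z = z) ∨ (τ x = y ∧ τ y = z ∧ τ z = x) ∨ (τ x = z ∧ τ z = y ∧ τ y = x) := by
  have i1 : τ x ≠ τ y := fun h => hxy (τ.injective h)
  have i2 : τ x ≠ τ z := fun h => hxz (τ.injective h)
  have i3 : τ y ≠ τ z := fun h => hyz (τ.injective h)
  have c1 := h3 x
  have c2 := h3 y
  have c3 := h3 z
  rcases hx with hx | hx | hx <;> rcases hy with hy | hy | hy <;> rcases hz with hz | hz | hz <;>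
    simp_all

end Cfsg.Agent.H935.FiThree
end

-- part: H935/FiThree/Pt
section
/-!
# `Fi23`: an element of order 3 fixing the transpositions commuting with `w0` is a power of `w0`
-/

set_option autoImplicit false
set_option maxRecDepth 100000
set_option linter.constructorNameAsVariable false

namespace Cfsg.Agent.H935.FiThree

open Subgroup Cfsg Cfsg.Agent.Lib.PermNet Cfsg.Agent.Lib.PermNetFix Cfsg.Agent.LThreeFi23
open Cfsg.Spor (Fi23)
open Cfsg.Agent.Fischer.Fi23Hom (rho)

/-- a cyclic shift of three points -/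
def Sh (τ : Equiv.Perm ℕ) (x y z : ℕ) : Prop :=
  (τ x = x ∧ τ y = y ∧ τ z = z) ∨ (τ x = y ∧ τ y = z ∧ τ z = x) ∨ (τ x = z ∧ τ z = y ∧ τ y = x)

theorem Sh.mul {τ σ : Equiv.Perm ℕ} {x y z : ℕ} (h : Sh τ x y z) (h' : Sh σ x y z) : Sh (τ * σ) x y z := by
  unfold Sh at *
  simp only [Equiv.Perm.mul_apply]
  rcases h with ⟨h1, h2, h3⟩ | ⟨h1, h2, h3⟩ | ⟨h1, h2, h3⟩ <;>
    rcases h' with ⟨h4, h5, h6⟩ | ⟨h4, h5, h6⟩ | ⟨h4, h5, h6⟩ <;> simp [*]

theorem W_pts : rho W 0 = 8006 ∧ rho W 8006 = 1 ∧ rho W 1 = 0 ∧ rho W 8001 = 6524 ∧ rho W 8002 = 8001 ∧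
    rho W 6524 = 8002 ∧ rho W 7999 = 8007 ∧ rho W 8007 = 6537 ∧ rho W 6537 = 7999 := by
  have h : ∀ a b, _ → rho W a = b := imgs_ab i_w0
  exact ⟨h 0 8006 (by simp), h 8006 1 (by simp), h 1 0 (by simp), h 8001 6524 (by simp),
    h 8002 8001 (by simp), h 6524 8002 (by simp), h 7999 8007 (by simp), h 8007 6537 (by simp),
    h 6537 7999 (by simp)⟩

theorem not_com {x : Lt} {q r : ℕ} (h : rho (elw [x]) q = r) (hne : r ≠ q) : ¬ Com (pt x) q := by
  rw [com_pt_iff]
  rw [elw_cons, elw_nil, mul_one] at h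
  rw [h]
  exact hne

theorem com_of {x : Lt} {q : ℕ} (h : rho (elw [x]) q = q) : Com (pt x) q := by
  rw [com_pt_iff]
  rw [elw_cons, elw_nil, mul_one] at h
  exact h

theorem eq_one_of {σ : Fi23} (h : Fixes σ) (h0 : rho σ 0 = 0) (hj : rho σ 8006 = 8006)
    (he : Sh (rho σ) 8001 6524 8002) (hh : Sh (rho σ) 7999 8007 6537) : σ = 1 := by
  -- `g`
  have hg : rho σ 8005 = 8005 := by
    have h1 := h.act_g (p := 8005) (by simp)
    have h2 : Com 0 (rho σ 8005) := (com_fix σ (by norm_num) h0).2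
      (com_of (x := .z) (imgs_ab i_z 8005 8005 (by simp)))
    simp only [List.mem_cons, List.not_mem_nil, or_false] at h1
    rcases h1 with h1 | h1 | h1
    · rw [h1] at h2
      exact absurd h2 (not_com (x := .z) (imgs_ab i_z 3 5268 (by simp)) (by norm_num))
    · rw [h1] at h2
      exact absurd h2 (not_com (x := .z) (imgs_ab i_z 4150 4 (by simp)) (by norm_num))
    · exact h1
  -- `e` and `f`
  have hef : rho σ 8001 = 8001 ∧ rho σ 6524 = 6524 ∧ rho σ 8002 = 8002 := by
    have h2 : Com 8005 (rho σ 8001) := (com_fix σ (by norm_num) hg).2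
      (com_of (x := .g) (imgs_ab i_g 8001 8001 (by simp)))
    rcases he with h1 | ⟨h1, -, -⟩ | ⟨h1, -, -⟩
    · exact h1
    · rw [h1] at h2
      exact absurd h2 (not_com (x := .g) (imgs_ab i_g 6524 5265 (by simp)) (by norm_num))
    · rw [h1] at h2
      exact absurd h2 (not_com (x := .g) (imgs_ab i_g 8002 6529 (by simp)) (by norm_num))
  -- `d`
  have hd : rho σ 8000 = 8000 := by
    have h1 := h.act_d (p := 8000) (by simp)
    have h2 : Com 8002 (rho σ 8000) := (com_fix σ (by norm_num) hef.2.2).2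
      (com_of (x := .f) (imgs_ab i_f 8000 8000 (by simp)))
    simp only [List.mem_cons, List.not_mem_nil, or_false] at h1
    rcases h1 with h1 | h1 | h1
    · rw [h1] at h2
      exact absurd h2 (not_com (x := .f) (imgs_ab i_f 4131 5256 (by simp)) (by norm_num))
    · rw [h1] at h2
      exact absurd h2 (not_com (x := .f) (imgs_ab i_f 4233 3320 (by simp)) (by norm_num))
    · exact h1
  -- `h` and `i`
  have hhi : rho σ 7999 = 7999 ∧ rho σ 8007 = 8007 ∧ rho σ 6537 = 6537 := by
    have h2 : Com 8000 (rho σ 8007) := (com_fix σ (by norm_num) hd).2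
      (com_of (x := .d) (imgs_ab i_d 8007 8007 (by simp)))
    rcases hh with h1 | ⟨-, h1, -⟩ | ⟨-, -, h1⟩
    · exact h1
    · rw [h1] at h2
      exact absurd h2 (not_com (x := .d) (imgs_ab i_d 6537 5286 (by simp)) (by norm_num))
    · rw [h1] at h2
      exact absurd h2 (not_com (x := .d) (imgs_ab i_d 7999 6522 (by simp)) (by norm_num))
  apply eq_one_of_comm
  intro x
  apply (fix_pt_iff σ x).1
  cases x
  · exact h.a
  · exact h.b
  · exact h.c
  · exact hd
  · exact hef.1
  · exact hef.2.2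
  · exact hg
  · exact hhi.1
  · exact hhi.2.1
  · exact hj
  · exact h0

theorem Fixes.mul {σ τ : Fi23} (h : Fixes σ) (h' : Fixes τ) : Fixes (σ * τ) := by
  constructor <;> rw [map_mul, Equiv.Perm.mul_apply]
  · rw [h'.a, h.a]
  · rw [h'.b, h.b]
  · rw [h'.c, h.c]
  · rw [h'.p707, h.p707]
  · rw [h'.p5694, h.p5694]
  · rw [h'.p1813, h.p1813]
  · rw [h'.p494, h.p494]
  · rw [h'.p3219, h.p3219]
  · rw [h'.p4823, h.p4823]

theorem Sh_W_e : Sh (rho W) 8001 6524 8002 := by
  obtain ⟨-, -, -, h1, h2, h3, -⟩ := W_pts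
  exact Or.inr (Or.inl ⟨h1, h3, h2⟩)

theorem Sh_W_h : Sh (rho W) 7999 8007 6537 := by
  obtain ⟨-, -, -, -, -, -, h1, h2, h3⟩ := W_pts
  exact Or.inr (Or.inl ⟨h1, h2, h3⟩)

/-- **an element of order 3 fixing the transpositions commuting with `w0`** -/
theorem cases_of_fixes (hW : Fixes W) {σ : Fi23} (h3 : σ ^ 3 = 1) (h : Fixes σ) : σ = 1 ∨ σ = W ∨ σ = W⁻¹ := by
  have h3' : ∀ q, rho σ (rho σ (rho σ q)) = q := by
    intro q
    rw [← Equiv.Perm.mul_apply, ← Equiv.Perm.mul_apply, ← map_mul, ← map_mul]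
    have : σ * σ * σ = 1 := by rw [← h3, pow_succ, pow_two]
    rw [this, map_one]
    rfl
  obtain ⟨w1, w2, w3, -⟩ := W_pts
  have s0 : Sh (rho σ) 0 8006 1 := by
    have a1 := h.act_z (p := 0) (by simp)
    have a2 := h.act_z (p := 8006) (by simp)
    have a3 := h.act_z (p := 1) (by simp)
    simp only [List.mem_cons, List.not_mem_nil, or_false] at a1 a2 a3
    exact shift h3' (by norm_num) (by norm_num) (by norm_num) (Or.imp_right Or.symm a1) (Or.imp_right Or.symm a2)
      (Or.imp_right Or.symm a3)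
  have se : Sh (rho σ) 8001 6524 8002 := by
    have a1 := h.act_e (p := 8001) (by simp)
    have a2 := h.act_e (p := 6524) (by simp)
    have a3 := h.act_e (p := 8002) (by simp)
    simp only [List.mem_cons, List.not_mem_nil, or_false] at a1 a2 a3
    exact shift h3' (by norm_num) (by norm_num) (by norm_num) (or_left_comm.1 a1) (or_left_comm.1 a2)
      (or_left_comm.1 a3)
  have sh : Sh (rho σ) 7999 8007 6537 := by
    have a1 := h.act_h (p := 7999) (by simp)
    have a2 := h.act_h (p := 8007) (by simp)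
    have a3 := h.act_h (p := 6537) (by simp)
    simp only [List.mem_cons, List.not_mem_nil, or_false] at a1 a2 a3
    exact shift h3' (by norm_num) (by norm_num) (by norm_num) (Or.rotate a1) (Or.rotate a2) (Or.rotate a3)
  rcases s0 with ⟨t1, t2, t3⟩ | ⟨t1, t2, t3⟩ | ⟨t1, t2, t3⟩
  · exact Or.inl (eq_one_of h t1 t2 se sh)
  · -- `σ` acts like `W`
    right; left
    have h1 : W * W * σ = 1 := by
      apply eq_one_of ((hW.mul hW).mul h)
      · rw [map_mul, map_mul, Equiv.Perm.mul_apply, Equiv.Perm.mul_apply, t1, w2, w3]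
      · rw [map_mul, map_mul, Equiv.Perm.mul_apply, Equiv.Perm.mul_apply, t2, w3, w1]
      · rw [map_mul, map_mul]
        exact (Sh_W_e.mul Sh_W_e).mul se
      · rw [map_mul, map_mul]
        exact (Sh_W_h.mul Sh_W_h).mul sh
    rw [← W_inv] at h1
    exact (inv_mul_eq_one.1 h1).symm
  · right; right
    have h1 : W * σ = 1 := by
      apply eq_one_of (hW.mul h)
      · rw [map_mul, Equiv.Perm.mul_apply, t1, w3]
      · rw [map_mul, Equiv.Perm.mul_apply, t3, w1]
      · rw [map_mul]
        exact Sh_W_e.mul se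
      · rw [map_mul]
        exact Sh_W_h.mul sh
    exact eq_inv_of_mul_eq_one_right h1

end Cfsg.Agent.H935.FiThree
end

-- part: H935/FiThree/Max
section
/-!
# `Fi23`: the normalizer of `⟨w0⟩` (class 3B) is a maximal subgroup

The subgroup generated by `a, b, c, z j, f e` and `pp` has three orbits, of lengths 324, 11664 and 19683, on the 31671
transpositions. As 324 + 11664 and 324 + 19683 do not divide the order of `Fi23`, a subgroup containing it is transitive
on the transpositions (and then is the whole group) or preserves the set of the 324 transpositions fixed by `w0` (and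
then normalizes `⟨w0⟩`).
-/

set_option autoImplicit false
set_option maxRecDepth 100000
set_option linter.constructorNameAsVariable false

namespace Cfsg.Agent.H935.FiThree

open Subgroup Cfsg Cfsg.Agent.Lib.PermNet Cfsg.Agent.Lib.PermNetFix Cfsg.Agent.LThreeFi23
open Cfsg.Spor (Fi23)
open Cfsg.Spor.Fi23 (Gen)
open Cfsg.Agent.Fischer.Fi23Hom (rho gen)

/-- the points of the mask -/
def pts (m : ℕ) : Set ℕ := {p | m.testBit p = true}

theorem mem_pts {m p : ℕ} : p ∈ pts m ↔ m.testBit p = true := Iff.rfl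

theorem lt_of_sub_full {m : ℕ} (h : ∀ p, m.testBit p = true → p < 31671) : m < 2 ^ 2 ^ 15 := by
  apply Nat.lt_pow_two_of_testBit
  intro i hi
  by_contra hc
  have h1 := h i (by simpa using hc)
  have : 31671 < 2 ^ 15 := by norm_num
  omega

theorem ncard_pts {m n : ℕ} (h : ∀ p, m.testBit p = true → p < 31671) (hpc : Lib.PermNetOrbit.pc 15 m = n) :
    (pts m).ncard = n := by
  rw [← hpc, Lib.PermNetOrbit.pc_eq 15 m (lt_of_sub_full h), ← Set.ncard_coe_finset]
  congr 1
  ext p
  rw [mem_pts, Finset.mem_coe, Lib.PermNetOrbit.mem_bits]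
  constructor
  · intro hp
    have := h p hp
    exact ⟨by omega, hp⟩
  · exact fun hp => hp.2

private theorem orb_aux {a b c d : ℕ} {L : List ℕ} (h : (seqB a fun A => seqB b fun B => seqB c fun C => seqB d fun D =>
    and (Nat.beq (Nat.lor (Nat.lor A B) C) full)
      (and (Nat.beq (Lib.PermNetOrbit.pc 15 (Nat.lor A B)) 11988)
        (and (Nat.beq (Lib.PermNetOrbit.pc 15 (Nat.lor A C)) 20007)
          (and (Nat.beq (Nat.land A D) 0)
            (and (Nat.beq (Lib.PermNetOrbit.pc 15 D) 31347) (allTb A L)))))) = true) :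
    a ||| b ||| c = full ∧ Lib.PermNetOrbit.pc 15 (a ||| b) = 11988 ∧
    Lib.PermNetOrbit.pc 15 (a ||| c) = 20007 ∧ a &&& d = 0 ∧
    Lib.PermNetOrbit.pc 15 d = 31347 ∧ ∀ p ∈ L, a.testBit p = true := by
  rw [seqB_eq, seqB_eq, seqB_eq, seqB_eq] at h
  simp only [Bool.and_eq_true] at h
  obtain ⟨h1, h2, h3, h4, h5, h6⟩ := h
  exact ⟨Nat.eq_of_beq_eq_true h1, Nat.eq_of_beq_eq_true h2, Nat.eq_of_beq_eq_true h3,
    Nat.eq_of_beq_eq_true h4, Nat.eq_of_beq_eq_true h5, allTb_spec _ _ h6⟩

theorem orb_facts : mF ||| m2 ||| m3 = full ∧ Lib.PermNetOrbit.pc 15 (mF ||| m2) = 11988 ∧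
    Lib.PermNetOrbit.pc 15 (mF ||| m3) = 20007 ∧ mF &&& moved 15 (ntw w0) = 0 ∧
    Lib.PermNetOrbit.pc 15 (moved 15 (ntw w0)) = 31347 ∧ ∀ p ∈ nine, mF.testBit p = true :=
  orb_aux (L := [11589, 8004, 8003, 707, 5694, 1813, 494, 3219, 4823]) chk_orb

theorem cover {p : ℕ} (hp : p < 31671) : mF.testBit p = true ∨ m2.testBit p = true ∨ m3.testBit p = true := by
  have h1 : full.testBit p = true := (testBit_full p).2 hp
  rw [← orb_facts.1, Nat.testBit_or, Nat.testBit_or, Bool.or_eq_true, Bool.or_eq_true] at h1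
  exact or_assoc.1 h1

theorem lt_of_bit {p : ℕ} (h : mF.testBit p = true ∨ m2.testBit p = true ∨ m3.testBit p = true) : p < 31671 := by
  rw [← testBit_full, ← orb_facts.1, Nat.testBit_or, Nat.testBit_or, Bool.or_eq_true, Bool.or_eq_true]
  exact or_assoc.2 h

theorem fix_of_bit {p : ℕ} (h : mF.testBit p = true) : rho W p = p := by
  have hp : p < 31671 := lt_of_bit (Or.inl h)
  have h1 := orb_facts.2.2.2.1
  have h2 : (moved 15 (ntw w0)).testBit p = false := by
    have h3 : (mF &&& moved 15 (ntw w0)).testBit p = false := by rw [h1, Nat.zero_testBit]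
    rw [Nat.testBit_and, h, Bool.true_and] at h3
    exact h3
  have h3 := testBit_moved (ntw_ok w0) (p := p) (by omega)
  rw [h2, ← rho_elw] at h3
  by_contra hc
  exact absurd (h3.2 hc) (by simp)

theorem Fixes_W : Fixes W := by
  have h := orb_facts.2.2.2.2.2
  constructor <;> exact fix_of_bit (h _ (by simp [nine]))

/-- the generating words -/
def gws : List (List Lt) := [[.a], [.b], [.c], u1, u2, pp]

/-- the orbit of 8003 under `H` -/
def Orb (H : Subgroup Fi23) : Set ℕ := {p | ∃ h ∈ H, rho h 8003 = p}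

theorem Orb_act {H : Subgroup Fi23} {p : ℕ} (hp : p ∈ Orb H) {h : Fi23} (hh : h ∈ H) : rho h p ∈ Orb H := by
  obtain ⟨k, hk, rfl⟩ := hp
  exact ⟨h * k, H.mul_mem hh hk, by rw [map_mul]; rfl⟩

theorem Orb_lt {H : Subgroup Fi23} {p : ℕ} (hp : p ∈ Orb H) : p < 31671 := by
  obtain ⟨k, -, rfl⟩ := hp
  exact act_lt k (by norm_num)

theorem Orb_ncard_dvd (H : Subgroup Fi23) : (Orb H).ncard ∣ 4089470473293004800 := by
  let _ : MulAction H ℕ := MulAction.compHom ℕ (rho.comp H.subtype)
  have h1 : Orb H = MulAction.orbit H (8003 : ℕ) := by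
    ext p
    constructor
    · rintro ⟨h, hh, rfl⟩
      exact ⟨⟨h, hh⟩, rfl⟩
    · rintro ⟨h, rfl⟩
      exact ⟨h, h.2, rfl⟩
  rw [h1, ← MulAction.index_stabilizer, ← card_G]
  exact (Subgroup.index_dvd_card _).trans (Subgroup.card_subgroup_dvd_card H)

theorem top_of_transitive {H : Subgroup Fi23} (hc : elw [.c] ∈ H) (h : ∀ p < 31671, p ∈ Orb H) : H = ⊤ := by
  have hel : ∀ x : Lt, el x ∈ H := by
    intro x
    obtain ⟨k, hk, he⟩ := h (pt x) (pt_lt x)
    have h1 : T (pt x) = k * T 8003 * k⁻¹ := by rw [← he, T_act k (by norm_num)]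
    have h2 : T 8003 = el .c := T_pt .c
    rw [T_pt, h2] at h1
    rw [elw_cons, elw_nil, mul_one] at hc
    rw [h1]
    exact H.mul_mem (H.mul_mem hk hc) (H.inv_mem hk)
  rw [eq_top_iff, ← show Subgroup.closure (Set.range gen) = ⊤ from Fischer.Fi23Final.gens_top,
    Subgroup.closure_le]
  rintro _ ⟨x, rfl⟩
  cases x
  · exact hel .a
  · exact hel .b
  · exact hel .c
  · exact hel .d
  · exact hel .e
  · exact hel .f
  · exact hel .g
  · exact hel .j
  · exact hel .h
  · exact hel .i

/-- **a subgroup containing the generating words is everything or preserves the 324 points** -/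
theorem orbit_alt {H : Subgroup Fi23} (hH : ∀ w ∈ gws, elw w ∈ H) :
    H = ⊤ ∨ ∀ h ∈ H, ∀ p, mF.testBit p = true → mF.testBit (rho h p) = true := by
  have ha : elw [.a] ∈ H := hH _ (by simp [gws])
  have hb : elw [.b] ∈ H := hH _ (by simp [gws])
  have hc : elw [.c] ∈ H := hH _ (by simp [gws])
  have hu1 : elw u1 ∈ H := hH _ (by simp [gws])
  have hu2 : elw u2 ∈ H := hH _ (by simp [gws])
  have hpp : elw pp ∈ H := hH _ (by simp [gws])
  have single : ∀ x : ℕ, ∀ p, (Nat.pow 2 x).testBit p = true → ∃ h ∈ H, rho h x = p := by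
    intro x p hp
    change (2 ^ x).testBit p = true at hp
    rw [Nat.testBit_two_pow] at hp
    exact ⟨1, H.one_mem, by rw [map_one]; simpa using hp⟩
  have gF : ∀ p, mF.testBit p = true → p ∈ Orb H := by
    intro p hp
    refine grow_spec (s := sF) (x := 8003) ?_ (single 8003) p hp
    intro w hw
    simp only [sF, List.mem_cons, List.not_mem_nil, or_false] at hw
    rcases hw with rfl | rfl | rfl | rfl | rfl | rfl | rfl | rfl | rfl | rfl | rfl | rfl | rfl | rfl | rfl |
      rfl | rfl <;> assumption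
  have g2 : ∀ p, m2.testBit p = true → ∃ h ∈ H, rho h 0 = p := by
    intro p hp
    refine grow_spec (s := s2) (x := 0) ?_ (single 0) p hp
    intro w hw
    simp only [s2, List.mem_cons, List.not_mem_nil, or_false] at hw
    rcases hw with rfl | rfl | rfl | rfl | rfl | rfl | rfl | rfl | rfl | rfl | rfl | rfl | rfl | rfl | rfl |
      rfl | rfl | rfl | rfl | rfl | rfl | rfl | rfl | rfl | rfl | rfl <;> assumption
  have g3 : ∀ p, m3.testBit p = true → ∃ h ∈ H, rho h 8000 = p := by
    intro p hp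
    refine grow_spec (s := s3) (x := 8000) ?_ (single 8000) p hp
    intro w hw
    simp only [s3, List.mem_cons, List.not_mem_nil, or_false] at hw
    rcases hw with rfl | rfl | rfl | rfl | rfl | rfl | rfl | rfl | rfl | rfl | rfl | rfl | rfl | rfl | rfl |
      rfl | rfl | rfl | rfl | rfl | rfl | rfl | rfl | rfl | rfl | rfl | rfl | rfl | rfl <;> assumption
  -- a point of the second or third mask in the orbit
  have back : ∀ {x p : ℕ}, p ∈ Orb H → (∃ h ∈ H, rho h x = p) → x ∈ Orb H := by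
    rintro x p hp ⟨h, hh, rfl⟩
    have h1 := Orb_act hp (H.inv_mem hh)
    rwa [← Equiv.Perm.mul_apply, ← map_mul, inv_mul_cancel, map_one] at h1
  have fwd : ∀ {x p : ℕ}, x ∈ Orb H → (∃ h ∈ H, rho h x = p) → p ∈ Orb H := by
    rintro x p hx ⟨h, hh, rfl⟩
    exact Orb_act hx hh
  by_cases b2 : 0 ∈ Orb H
  · by_cases b3 : 8000 ∈ Orb H
    · left
      apply top_of_transitive hc
      intro p hp
      rcases cover hp with h | h | h
      · exact gF p h
      · exact fwd b2 (g2 p h)
      · exact fwd b3 (g3 p h)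
    · exfalso
      have h1 : Orb H = pts (mF ||| m2) := by
        ext p
        rw [mem_pts, Nat.testBit_or, Bool.or_eq_true]
        constructor
        · intro hp
          rcases cover (Orb_lt hp) with h | h | h
          · exact Or.inl h
          · exact Or.inr h
          · exact absurd (back hp (g3 p h)) b3
        · rintro (h | h)
          · exact gF p h
          · exact fwd b2 (g2 p h)
      have h2 := Orb_ncard_dvd H
      rw [h1, ncard_pts (n := 11988) ?_ orb_facts.2.1] at h2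
      · revert h2
        norm_num
      · intro p hp
        rw [Nat.testBit_or, Bool.or_eq_true] at hp
        exact lt_of_bit (hp.imp_right Or.inl)
  · by_cases b3 : 8000 ∈ Orb H
    · exfalso
      have h1 : Orb H = pts (mF ||| m3) := by
        ext p
        rw [mem_pts, Nat.testBit_or, Bool.or_eq_true]
        constructor
        · intro hp
          rcases cover (Orb_lt hp) with h | h | h
          · exact Or.inl h
          · exact absurd (back hp (g2 p h)) b2
          · exact Or.inr h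
        · rintro (h | h)
          · exact gF p h
          · exact fwd b3 (g3 p h)
      have h2 := Orb_ncard_dvd H
      rw [h1, ncard_pts (n := 20007) ?_ orb_facts.2.2.1] at h2
      · revert h2
        norm_num
      · intro p hp
        rw [Nat.testBit_or, Bool.or_eq_true] at hp
        exact lt_of_bit (hp.imp_right Or.inr)
    · right
      intro h hh p hp
      have h1 := Orb_act (gF p hp) hh
      rcases cover (Orb_lt h1) with h2 | h2 | h2
      · exact h2
      · exact absurd (back h1 (g2 _ h2)) b2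
      · exact absurd (back h1 (g3 _ h2)) b3

/-! ### The normalizer -/

theorem W_ne_one : W ≠ 1 := by
  intro h
  have h1 := W_pts.1
  rw [h, map_one] at h1
  exact absurd h1 (by norm_num)

theorem zpow_cases (k : ℤ) : W ^ k = 1 ∨ W ^ k = W ∨ W ^ k = W⁻¹ := by
  have h1 : W ^ k = W ^ (k % 3) := by
    conv_lhs => rw [← Int.emod_add_mul_ediv k 3]
    rw [zpow_add, zpow_mul]
    have : W ^ (3 : ℤ) = 1 := by exact_mod_cast W_cube
    rw [this, one_zpow, mul_one]
  have h2 : k % 3 = 0 ∨ k % 3 = 1 ∨ k % 3 = 2 := by omega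
  rcases h2 with h | h | h
  · left
    rw [h1, h, zpow_zero]
  · right; left
    rw [h1, h, zpow_one]
  · right; right
    rw [h1, h, W_inv]
    exact pow_two W

/-- the normalizer of `⟨w0⟩` -/
def NW : Subgroup Fi23 := normalizer ((zpowers W : Subgroup Fi23) : Set Fi23)

theorem conj_mem {g : Fi23} (h : g * W * g⁻¹ ∈ zpowers W) {x : Fi23} (hx : x ∈ zpowers W) :
    g * x * g⁻¹ ∈ zpowers W := by
  obtain ⟨k, rfl⟩ := mem_zpowers_iff.1 hx
  rw [← conj_zpow]
  exact (zpowers W).zpow_mem h k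

theorem mem_NW_iff {g : Fi23} : g ∈ NW ↔ g * W * g⁻¹ = W ∨ g * W * g⁻¹ = W⁻¹ := by
  unfold NW
  rw [mem_normalizer_iff]
  constructor
  · intro h
    have h1 := (h W).1 (mem_zpowers W)
    obtain ⟨k, hk⟩ := mem_zpowers_iff.1 h1
    rcases zpow_cases k with h2 | h2 | h2
    · exfalso
      rw [hk] at h2
      exact W_ne_one (conj_eq_one_iff.1 h2)
    · left; rw [← hk, h2]
    · right; rw [← hk, h2]
  · intro h x
    have h1 : g * W * g⁻¹ ∈ zpowers W := by
      rcases h with h | h
      · rw [h]; exact mem_zpowers W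
      · rw [h]; exact inv_mem (mem_zpowers W)
    have h2 : g⁻¹ * W * g⁻¹⁻¹ ∈ zpowers W := by
      have h3 : g⁻¹ * W * g⁻¹⁻¹ = W ∨ g⁻¹ * W * g⁻¹⁻¹ = W⁻¹ := by
        rcases h with h | h
        · left
          rw [inv_inv]
          calc g⁻¹ * W * g = g⁻¹ * (g * W * g⁻¹) * g := by rw [h]
            _ = W := by group
        · right
          rw [inv_inv]
          calc g⁻¹ * W * g = g⁻¹ * (W⁻¹)⁻¹ * g := by rw [inv_inv]
            _ = g⁻¹ * (g * W * g⁻¹)⁻¹ * g := by rw [h]
            _ = W⁻¹ := by group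
      rcases h3 with h | h
      · rw [h]; exact mem_zpowers W
      · rw [h]; exact inv_mem (mem_zpowers W)
    constructor
    · exact fun hx => conj_mem h1 hx
    · intro hx
      have h3 := conj_mem h2 hx
      have h4 : g⁻¹ * (g * x * g⁻¹) * g⁻¹⁻¹ = x := by group
      rwa [h4] at h3

theorem mem_NW_of_comm {g : Fi23} (h : g * W = W * g) : g ∈ NW := by
  rw [mem_NW_iff]
  left
  rw [h, mul_inv_cancel_right]

theorem elw_mem_NW {l : List Lt} (h : elw (l ++ w0) = elw (w0 ++ l)) : elw l ∈ NW := by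
  apply mem_NW_of_comm
  rw [elw_append, elw_append] at h
  exact h

theorem gws_mem : ∀ w ∈ gws, elw w ∈ NW := by
  intro w hw
  simp only [gws, List.mem_cons, List.not_mem_nil, or_false] at hw
  rcases hw with rfl | rfl | rfl | rfl | rfl | rfl
  · exact elw_mem_NW a_w0
  · exact elw_mem_NW b_w0
  · exact elw_mem_NW c_w0
  · exact elw_mem_NW u1_w0
  · exact elw_mem_NW u2_w0
  · exact elw_mem_NW pp_w0

theorem NW_ne_top : NW ≠ ⊤ := by
  intro h
  have h1 : (zpowers W).Normal := by
    rw [← normalizer_eq_top_iff]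
    exact h
  have hs := nsimple
  have hc : Nat.card (zpowers W) ≤ 3 := by
    rw [Nat.card_zpowers]
    exact Nat.le_of_dvd (by norm_num) (orderOf_dvd_of_pow_eq_one W_cube)
  rcases h1.eq_bot_or_eq_top with h2 | h2
  · rw [zpowers_eq_bot] at h2
    exact W_ne_one h2
  · rw [h2, card_top, card_G] at hc
    norm_num at hc

/-- **the normalizer of `⟨w0⟩` is maximal** -/
theorem NW_isCoatom : IsCoatom NW := by
  refine ⟨NW_ne_top, ?_⟩
  intro K hK
  rcases orbit_alt (H := K) (fun w hw => hK.le (gws_mem w hw)) with h | h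
  · exact h
  · exfalso
    apply hK.not_ge
    intro k hk
    rw [mem_NW_iff]
    have h3 : (k * W * k⁻¹) ^ 3 = 1 := by
      rw [conj_pow, W_cube, mul_one, mul_inv_cancel]
    have key : ∀ p, mF.testBit p = true → rho (k * W * k⁻¹) p = p := by
      intro p hp
      have h4 := fix_of_bit (h k⁻¹ (K.inv_mem hk) p hp)
      rw [map_mul, map_mul, Equiv.Perm.mul_apply, Equiv.Perm.mul_apply, h4, ← Equiv.Perm.mul_apply, ← map_mul,
        mul_inv_cancel, map_one]
      rfl
    have hF : Fixes (k * W * k⁻¹) := by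
      have h5 := orb_facts.2.2.2.2.2
      constructor <;> exact key _ (h5 _ (by simp [nine]))
    rcases cases_of_fixes Fixes_W h3 hF with h6 | h6 | h6
    · exact absurd (conj_eq_one_iff.1 h6) W_ne_one
    · exact Or.inl h6
    · exact Or.inr h6

end Cfsg.Agent.H935.FiThree
end

private theorem dce_4bce72503076 : _root_.True := by
  try have : _root_.True := by simp only [_root_.Cfsg.Agent.H935.FiThree.ce_e.eq_1]
  try have : _root_.True := by simp only [_root_.Cfsg.Agent.H935.FiThree.s2.eq_1]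
  try have : _root_.True := by simp only [_root_.Cfsg.Agent.H935.FiThree.ce_z.eq_1]
  try have : _root_.True := by simp only [_root_.Cfsg.Agent.H935.FiThree.ce_h.eq_1]
  try have : _root_.True := by simp only [_root_.Cfsg.Agent.H935.FiThree.nine.eq_1]
  try have : _root_.True := by simp only [_root_.Cfsg.Agent.H935.FiThree.gws.eq_1]
  try have : _root_.True := by simp only [_root_.Cfsg.Agent.H935.FiThree.ce_d.eq_1]
  try have : _root_.True := by simp only [_root_.Cfsg.Agent.H935.FiThree.sF.eq_1]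
  try have : _root_.True := by simp only [_root_.Cfsg.Agent.H935.FiThree.s3.eq_1]
  try have : _root_.True := by simp only [_root_.Cfsg.Agent.H935.FiThree.ce_g.eq_1]
  exact _root_.True.intro
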